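import Groth.Agent.H02CA.AS.Kernel
import Mathlib.RepresentationTheory.Homological.GroupCohomology.Functoriality
import Mathlib.GroupTheory.OrderOfElement
import Mathlib.LinearAlgebra.FiniteDimensional.Lemmas

/-!
First cohomology of the twisted actions.
-/

set_option autoImplicit false

universe u

open PowerSeries CategoryTheory groupCohomology

namespace Groth.Agent.H02CA.AS

variable {k : Type u} [Field k] {p : ℕ} [Fact p.Prime] [CharP k p] {n : ℕ} {U : (k⟦X⟧)ˣ}
  {G : Type u} [Group G] {g : G} {b : ℤ} {ρ : Representation k G k⟦X⟧}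

/-- Partial sums of the orbit of an element. -/
noncomputable def psum (U : (k⟦X⟧)ˣ) (b : ℤ) (x : k⟦X⟧) (i : ℕ) : k⟦X⟧ :=
  ∑ j ∈ Finset.range i, (sig U b ^ j) x

theorem psum_add (x : k⟦X⟧) (i j : ℕ) :
    psum U b x (i + j) = psum U b x i + (sig U b ^ i) (psum U b x j) := by
  simp only [psum, Finset.sum_range_add, map_sum, pow_add, Module.End.mul_apply]

theorem IsBreak.psum_mod (h : IsBreak p n U) {x : k⟦X⟧} (hx : norm p U b x = 0) :
    ∀ i : ℕ, psum U b x i = psum U b x (i % p) := by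
  intro i
  induction i using Nat.strong_induction_on with
  | _ i ih =>
    rcases Nat.lt_or_ge i p with hlt | hge
    · rw [Nat.mod_eq_of_lt hlt]
    · obtain ⟨j, rfl⟩ : ∃ j, i = p + j := ⟨i - p, by omega⟩
      have h0 : psum U b x p = 0 := by
        rw [psum, ← LinearMap.sum_apply]; exact hx
      have := (Fact.out : p.Prime).pos
      rw [Nat.add_mod_left, ← ih j (by omega), psum_add, h0, zero_add, h.sig_pow_p, Module.End.one_apply]

/-- The representation is the twisted action at the generator. -/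
structure IsTwist (p : ℕ) (U : (k⟦X⟧)ˣ) (b : ℤ) (g : G) (ρ : Representation k G k⟦X⟧) : Prop where
  card : Nat.card G = p
  gen : ∀ x : G, x ∈ Subgroup.zpowers g
  act : ρ g = sig U b

omit [CharP k p] in
theorem IsTwist.orderOf_eq (hρ : IsTwist p U b g ρ) : orderOf g = p := by
  rw [orderOf_eq_card_of_forall_mem_zpowers hρ.gen, hρ.card]

omit [CharP k p] in
theorem IsTwist.exists_pow (hρ : IsTwist p U b g ρ) (x : G) : ∃ i : ℕ, g ^ i = x := by
  have hf : IsOfFinOrder g := orderOf_pos_iff.1 (by rw [hρ.orderOf_eq]; exact (Fact.out : p.Prime).pos)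
  exact (hf.mem_powers_iff_mem_zpowers).2 (hρ.gen x)

omit [Fact p.Prime] [CharP k p] in
theorem IsTwist.act_pow (hρ : IsTwist p U b g ρ) (i : ℕ) : ρ (g ^ i) = sig U b ^ i := by
  rw [map_pow, hρ.act]

omit [Fact p.Prime] [CharP k p] in
theorem IsTwist.cocycle_pow (hρ : IsTwist p U b g ρ) (f : cocycles₁ (Rep.of ρ)) :
    ∀ i : ℕ, f (g ^ i) = psum U b (f g) i
  | 0 => by rw [pow_zero, cocycles₁_map_one]; rfl
  | i + 1 => by
    rw [pow_succ]
    refine ((mem_cocycles₁_iff _).1 f.2 (g ^ i) g).trans ?_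
    rw [cocycles₁.val_eq_coe, hρ.cocycle_pow f i]
    change ρ (g ^ i) (f g) + _ = _
    rw [hρ.act_pow, psum, psum, Finset.sum_range_succ, add_comm]

omit [CharP k p] in
theorem IsTwist.norm_cocycle (hρ : IsTwist p U b g ρ) (f : cocycles₁ (Rep.of ρ)) : norm p U b (f g) = 0 := by
  have h := hρ.cocycle_pow f p
  rw [show g ^ p = 1 by rw [← hρ.orderOf_eq, pow_orderOf_eq_one], cocycles₁_map_one, psum,
    ← LinearMap.sum_apply] at h
  exact h.symm

theorem IsTwist.exists_cocycle (h : IsBreak p n U) (hρ : IsTwist p U b g ρ) {x : k⟦X⟧}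
    (hx : norm p U b x = 0) : ∃ f : cocycles₁ (Rep.of ρ), f g = x := by
  classical
  choose e he using hρ.exists_pow
  have key : ∀ i, psum U b x (e (g ^ i)) = psum U b x i := fun i => by
    rw [h.psum_mod hx (e (g ^ i)), h.psum_mod hx i]
    have := pow_inj_mod.1 (he (g ^ i))
    rw [hρ.orderOf_eq] at this
    rw [this]
  refine ⟨⟨fun y => psum U b x (e y), (mem_cocycles₁_iff (A := Rep.of ρ) _).2 fun y z => ?_⟩, ?_⟩
  · obtain ⟨i, rfl⟩ := hρ.exists_pow y
    obtain ⟨j, rfl⟩ := hρ.exists_pow z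
    rw [← pow_add, key, key, key, psum_add, add_comm]
    change _ = ρ (g ^ i) (psum U b x j) + _
    rw [hρ.act_pow]
  · change psum U b x (e g) = x
    have := key 1
    rw [pow_one] at this
    rw [this]
    simp [psum]

omit [Fact p.Prime] [CharP k p] in
theorem IsTwist.mem_coboundaries (hρ : IsTwist p U b g ρ) [Fact p.Prime] (f : cocycles₁ (Rep.of ρ)) :
    ⇑f ∈ coboundaries₁ (Rep.of ρ) ↔ f g ∈ LinearMap.range (diff U b) := by
  constructor
  · rintro ⟨c, hc⟩
    refine ⟨c, ?_⟩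
    have := congr_fun hc g
    rw [← this]
    change sig U b c - c = ρ g c - c
    rw [hρ.act]
  · rintro ⟨c, hc⟩
    refine ⟨c, funext fun y => ?_⟩
    obtain ⟨i, rfl⟩ := hρ.exists_pow y
    change ρ (g ^ i) c - c = f (g ^ i)
    rw [hρ.act_pow, hρ.cocycle_pow, psum, ← hc]
    have hgs : (∑ j ∈ Finset.range i, sig U b ^ j) * diff U b = sig U b ^ i - 1 := geom_sum_mul _ i
    have h2 := LinearMap.congr_fun hgs c
    rw [Module.End.mul_apply, LinearMap.sum_apply, LinearMap.sub_apply, Module.End.one_apply] at h2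
    exact h2.symm

/-- The coordinates of a cocycle. -/
noncomputable def evalCoords (p n : ℕ) (b : ℤ) (g : G) (ρ : Representation k G k⟦X⟧) :
    cocycles₁ (Rep.of ρ) →ₗ[k] (orders p n b → k) :=
  (coords p n b).comp ((LinearMap.proj g).comp (cocycles₁ (Rep.of ρ)).subtype)

theorem exists_H1_equiv (h : IsBreak p n U) (hρ : IsTwist p U b g ρ) :
    ∃ E : H1 (Rep.of ρ) ≃ₗ[k] (orders p n b → k),
      ∀ f : cocycles₁ (Rep.of ρ), E (H1π (Rep.of ρ) f) = coords p n b (f g) := by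
  let q : cocycles₁ (Rep.of ρ) →ₗ[k] H1 (Rep.of ρ) := (H1π (Rep.of ρ)).hom
  have hq : Function.Surjective q := fun x => H1_induction_on x fun y => ⟨y, rfl⟩
  have he : Function.Surjective (evalCoords p n b g ρ) := fun y => by
    obtain ⟨x, hx, hy⟩ := h.coords_surjective b y
    obtain ⟨f, hf⟩ := IsTwist.exists_cocycle h hρ hx
    exact ⟨f, by rw [← hy, ← hf]; rfl⟩
  have hker : LinearMap.ker q = LinearMap.ker (evalCoords p n b g ρ) := by
    ext f
    rw [LinearMap.mem_ker, LinearMap.mem_ker]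
    refine (H1π_eq_zero_iff f).trans ?_
    rw [hρ.mem_coboundaries f, ← h.coords_eq_zero_iff b (hρ.norm_cocycle f)]
    rfl
  refine ⟨(q.quotKerEquivOfSurjective hq).symm.trans ((Submodule.quotEquivOfEq _ _ hker).trans
    ((evalCoords p n b g ρ).quotKerEquivOfSurjective he)), fun f => ?_⟩
  have h1 : (q.quotKerEquivOfSurjective hq).symm (q f) = Submodule.Quotient.mk f := by
    rw [LinearEquiv.symm_apply_eq]
    rfl
  rw [LinearEquiv.trans_apply, LinearEquiv.trans_apply]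
  change ((evalCoords p n b g ρ).quotKerEquivOfSurjective he)
    (Submodule.quotEquivOfEq _ _ hker ((q.quotKerEquivOfSurjective hq).symm (q f))) = _
  rw [h1]
  rfl

theorem finrank_H1 (h : IsBreak p n U) (hρ : IsTwist p U b g ρ) :
    Module.Finite k (H1 (Rep.of ρ)) ∧
      (Module.finrank k (H1 (Rep.of ρ)) : ℤ) = n - (b - 1) / (p : ℤ) + (b - 1 - n) / (p : ℤ) := by
  obtain ⟨E, -⟩ := exists_H1_equiv h hρ
  refine ⟨Module.Finite.equiv E.symm, ?_⟩
  rw [LinearEquiv.finrank_eq E, Module.finrank_fintype_fun_eq_card, Fintype.card_coe]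
  exact card_orders p n (Fact.out : p.Prime).pos b

/-- The orders hit by derivatives. -/
def derivOrders (p n : ℕ) : Finset (Fin n) :=
  Finset.univ.filter fun i => ¬ (p : ℤ) ∣ ((i : ℕ) + 1 : ℤ) ∧ ¬ (p : ℤ) ∣ ((i : ℕ) + 1 - n : ℤ)

theorem mem_derivOrders {i : Fin n} :
    i ∈ derivOrders p n ↔ ¬ (p : ℤ) ∣ ((i : ℕ) + 1 : ℤ) ∧ ¬ (p : ℤ) ∣ ((i : ℕ) + 1 - n : ℤ) := by
  simp [derivOrders]

theorem derivOrders_subset (p n : ℕ) : derivOrders p n ⊆ orders p n (n + 1) := fun i hi => by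
  simp only [derivOrders, orders, Finset.mem_filter, Finset.mem_univ, true_and] at hi ⊢
  rw [show ((n : ℤ) + 1) + (i : ℕ) - n = (i : ℕ) + 1 by ring]
  exact hi.1

theorem card_derivOrders (p n : ℕ) (hp : p.Prime) (hn : 0 < n) (hpn : ¬ p ∣ n) :
    ((derivOrders p n).card : ℤ) = ((n + 1) * (p - 1) : ℤ) / p - 1 - (n - 1 : ℤ) / p := by
  classical
  have hp' : (0 : ℤ) < p := by exact_mod_cast hp.pos
  let A := (Finset.range n).filter fun j : ℕ => (p : ℤ) ∣ (n : ℤ) - j
  let B := (Finset.range n).filter fun j : ℕ => (p : ℤ) ∣ (0 : ℤ) - j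
  have h1 : derivOrders p n = Finset.univ.filter fun m : Fin n =>
      ¬ ((p : ℤ) ∣ (n : ℤ) - ((n - 1 - m.1 : ℕ) : ℤ) ∨ (p : ℤ) ∣ (0 : ℤ) - ((n - 1 - m.1 : ℕ) : ℤ)) := by
    refine Finset.filter_congr fun m _ => ?_
    rw [not_or, show (n : ℤ) - ((n - 1 - m.1 : ℕ) : ℤ) = (m.1 : ℤ) + 1 by have := m.2; omega,
      show (0 : ℤ) - ((n - 1 - m.1 : ℕ) : ℤ) = (m.1 : ℤ) + 1 - n by have := m.2; omega]
  rw [h1, card_fin_filter n fun j => ¬ ((p : ℤ) ∣ (n : ℤ) - (j : ℤ) ∨ (p : ℤ) ∣ (0 : ℤ) - (j : ℤ))]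
  have h2 := Finset.card_filter_add_card_filter_not (s := Finset.range n)
    fun j : ℕ => (p : ℤ) ∣ (n : ℤ) - j ∨ (p : ℤ) ∣ (0 : ℤ) - j
  rw [Finset.card_range, Finset.filter_or, Finset.card_union_of_disjoint (by
    rw [Finset.disjoint_filter]
    intro j _ ha hb
    refine hpn (Int.natCast_dvd_natCast.1 ?_)
    have := dvd_sub ha hb
    simpa using this)] at h2
  have h3 := card_filter_dvd p hp.pos n n
  have h4 := card_filter_dvd p hp.pos 0 n
  rw [sub_self, Int.zero_ediv] at h3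
  rw [Int.zero_ediv, zero_sub, zero_sub] at h4
  obtain ⟨r, q, hr, hrp, hn'⟩ : ∃ r q : ℤ, 0 < r ∧ r < p ∧ (n : ℤ) = r + p * q := by
    refine ⟨(n : ℤ) % p, (n : ℤ) / p, lt_of_le_of_ne (Int.emod_nonneg _ hp'.ne') fun h0 => hpn
      (Int.natCast_dvd_natCast.1 (Int.dvd_of_emod_eq_zero h0.symm)), Int.emod_lt_of_pos _ hp',
      (Int.emod_add_mul_ediv _ _).symm⟩
  have e1 : (n : ℤ) / p = q := by
    rw [hn', Int.add_mul_ediv_left _ _ hp'.ne', Int.ediv_eq_zero_of_lt hr.le hrp, zero_add]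
  have e2 : (-(n : ℤ)) / p = -q - 1 := by
    rw [hn', show -(r + (p : ℤ) * q) = (p - r) + p * (-q - 1) by ring, Int.add_mul_ediv_left _ _ hp'.ne',
      Int.ediv_eq_zero_of_lt (by omega) (by omega), zero_add]
  have e3 : ((n : ℤ) - 1) / p = q := by
    rw [hn', show r + (p : ℤ) * q - 1 = (r - 1) + p * q by ring, Int.add_mul_ediv_left _ _ hp'.ne',
      Int.ediv_eq_zero_of_lt (by omega) (by omega), zero_add]
  have e4 : ((n : ℤ) + 1) * (p - 1) / p = n + 1 - q - 1 := by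
    rw [show ((n : ℤ) + 1) * (p - 1) = (p - (r + 1)) + p * (n + 1 - q - 1) by rw [hn']; ring,
      Int.add_mul_ediv_left _ _ hp'.ne', Int.ediv_eq_zero_of_lt (by omega) (by omega), zero_add]
  omega

omit [Fact p.Prime] [CharP k p] in
theorem map_H1π {A B : Rep k G} (φ : A ⟶ B) (f : cocycles₁ A) :
    ∃ f' : cocycles₁ B, ((groupCohomology.functor k G 1).map φ).hom (H1π A f) = H1π B f' ∧
      ∀ x : G, f' x = φ.hom (f x) :=
  ⟨mapCocycles₁ (MonoidHom.id G) φ f, H1π_comp_map_apply (MonoidHom.id G) φ f, fun _ => rfl⟩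

theorem finrank_range_map (h : IsBreak p n U) [IsAlgClosed k] {ρ₀ ρ₁ : Representation k G k⟦X⟧}
    (h₀ : IsTwist p U 0 g ρ₀) (h₁ : IsTwist p U (n + 1) g ρ₁) (φ : Rep.of ρ₀ ⟶ Rep.of ρ₁)
    (hφ : ∀ x : k⟦X⟧, φ.hom x = PowerSeries.derivative k x) :
    Module.Finite k (LinearMap.range ((groupCohomology.functor k G 1).map φ).hom) ∧
      (Module.finrank k (LinearMap.range ((groupCohomology.functor k G 1).map φ).hom) : ℤ) =
        ((n + 1) * (p - 1) : ℤ) / p - 1 - (n - 1 : ℤ) / p := by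
  classical
  obtain ⟨E₁, hE₁⟩ := exists_H1_equiv h h₁
  let M : H1 (Rep.of ρ₀) →ₗ[k] H1 (Rep.of ρ₁) := ((groupCohomology.functor k G 1).map φ).hom
  have hM : ∀ (f : cocycles₁ (Rep.of ρ₀)), ∃ f' : cocycles₁ (Rep.of ρ₁),
      M (H1π (Rep.of ρ₀) f) = H1π (Rep.of ρ₁) f' ∧ f' g = PowerSeries.derivative k (f g) := fun f => by
    obtain ⟨f', h1', h2'⟩ := map_H1π φ f
    exact ⟨f', h1', (h2' g).trans (hφ _)⟩
  let π : (orders p n ((n : ℤ) + 1) → k) →ₗ[k] (derivOrders p n → k) :=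
    LinearMap.funLeft k k fun i => ⟨i.1, derivOrders_subset p n i.2⟩
  have hval : ∀ f : cocycles₁ (Rep.of ρ₀), ∀ i : orders p n ((n : ℤ) + 1),
      E₁ (M (H1π (Rep.of ρ₀) f)) i = coeff (i.1.1 + 1) (f g) * ((i.1.1 : k) + 1) := fun f i => by
    obtain ⟨f', hf', hg'⟩ := hM f
    rw [hf', hE₁, coords_apply, hg', PowerSeries.coeff_derivative]
  let L : LinearMap.range M →ₗ[k] (derivOrders p n → k) := π.comp (E₁.toLinearMap.comp (LinearMap.range M).subtype)
  have hne : ∀ i : Fin n, ¬ (p : ℤ) ∣ ((i : ℕ) + 1 : ℤ) → ((i.1 : k) + 1) ≠ 0 := fun i hi => by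
    have := fun h0 => hi ((CharP.intCast_eq_zero_iff k p ((i.1 : ℤ) + 1)).1 h0)
    simpa using this
  have hbij : Function.Bijective L := by
    constructor
    · rw [← LinearMap.ker_eq_bot, LinearMap.ker_eq_bot']
      rintro ⟨_, ⟨x, rfl⟩⟩ hx
      revert hx
      refine H1_induction_on x fun f hx => ?_
      refine Subtype.ext (E₁.injective ?_)
      change E₁ (M (H1π (Rep.of ρ₀) f)) = E₁ 0
      rw [map_zero]
      funext i
      rw [hval, Pi.zero_apply, mul_eq_zero]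
      refine Or.inl (h.coeff_eq_zero_of_dvd (h₀.norm_cocycle f) (fun l hl hpl hpl' => ?_) _ i.1.2 ?_)
      · obtain ⟨i', rfl⟩ : ∃ i', l = i' + 1 :=
          ⟨l - 1, by have : l ≠ 0 := fun e => hpl (e ▸ dvd_zero p); omega⟩
        have hmem : (⟨i', by omega⟩ : Fin n) ∈ derivOrders p n := mem_derivOrders.2
          ⟨fun hd => hpl (Int.natCast_dvd_natCast.1 (by exact_mod_cast hd)), fun hd => hpl' (by exact_mod_cast hd)⟩
        have := congr_fun hx ⟨_, hmem⟩
        change E₁ (M (H1π (Rep.of ρ₀) f)) ⟨_, derivOrders_subset p n hmem⟩ = 0 at this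
        rw [hval, mul_eq_zero] at this
        exact this.resolve_right (hne _ (mem_derivOrders.1 hmem).1)
      · have hi := mem_orders.1 i.2
        rw [show (n : ℤ) + 1 + (i.1.1 : ℕ) - n = ((i.1.1 + 1 : ℕ) : ℤ) by push_cast; ring] at hi
        exact fun hd => hi (Int.natCast_dvd_natCast.2 hd)
    · intro y
      have hlt : ∀ i : derivOrders p n, i.1.1 + 1 < n := fun i => by
        refine lt_of_le_of_ne i.1.2 fun e => (mem_derivOrders.1 i.2).2 ?_
        rw [show ((i.1.1 : ℕ) : ℤ) + 1 - n = 0 by omega]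
        exact dvd_zero _
      let z : orders p n (0 : ℤ) → k := fun m =>
        if hm : ∃ i : derivOrders p n, i.1.1 + 1 = m.1.1 then y hm.choose / ((hm.choose.1.1 : k) + 1) else 0
      obtain ⟨x, hx, hxz⟩ := h.coords_surjective 0 z
      obtain ⟨f, hf⟩ := IsTwist.exists_cocycle h h₀ hx
      refine ⟨⟨_, ⟨H1π (Rep.of ρ₀) f, rfl⟩⟩, funext fun i => ?_⟩
      change E₁ (M (H1π (Rep.of ρ₀) f)) ⟨i.1, derivOrders_subset p n i.2⟩ = y i
      rw [hval, hf]
      have hmem : (⟨i.1.1 + 1, hlt i⟩ : Fin n) ∈ orders p n (0 : ℤ) := mem_orders.2 (by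
        simpa using (mem_derivOrders.1 i.2).2)
      have e := congr_fun hxz ⟨_, hmem⟩
      rw [coords_apply] at e
      rw [e]
      have hex : ∃ i' : derivOrders p n, i'.1.1 + 1 = i.1.1 + 1 := ⟨i, rfl⟩
      have hz : z ⟨⟨i.1.1 + 1, hlt i⟩, hmem⟩ = y hex.choose / ((hex.choose.1.1 : k) + 1) := dif_pos hex
      have hc : hex.choose = i := Subtype.ext (Fin.ext (Nat.succ_injective hex.choose_spec))
      rw [hz, hc]
      exact div_mul_cancel₀ _ (hne _ (mem_derivOrders.1 i.2).1)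
  let e := LinearEquiv.ofBijective L hbij
  refine ⟨Module.Finite.equiv e.symm, ?_⟩
  change (Module.finrank k (LinearMap.range M) : ℤ) = _
  rw [LinearEquiv.finrank_eq e, Module.finrank_fintype_fun_eq_card, Fintype.card_coe]
  exact card_derivOrders p n (Fact.out : p.Prime) h.pos h.ndvd

end Groth.Agent.H02CA.AS
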