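import Groth.Agent.H02CA.AS.Twist
import Mathlib.Algebra.CharP.Algebra
import Mathlib.FieldTheory.IsAlgClosed.Basic
import Mathlib.Algebra.BigOperators.Fin

/-!
The kernel of the norm of the twisted action modulo the image of the difference operator.
-/

set_option autoImplicit false

universe u

open PowerSeries

namespace Groth.Agent.H02CA.AS

variable {k : Type u} [Field k] {p : ℕ} [Fact p.Prime] [CharP k p] {n : ℕ} {U : (k⟦X⟧)ˣ}

/-- The orders below `n` of classes in the kernel of the norm. -/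
def orders (p n : ℕ) (b : ℤ) : Finset (Fin n) := Finset.univ.filter fun m => ¬ (p : ℤ) ∣ b + (m : ℕ) - n

theorem mem_orders {b : ℤ} {m : Fin n} : m ∈ orders p n b ↔ ¬ (p : ℤ) ∣ b + (m : ℕ) - n := by
  simp [orders]

theorem IsBreak.diff_mem_ker (h : IsBreak p n U) (b : ℤ) (f : k⟦X⟧) : norm p U b (diff U b f) = 0 :=
  LinearMap.congr_fun (h.norm_mul_diff b) f

theorem IsBreak.coeff_diff_eq_zero (h : IsBreak p n U) (b : ℤ) (f : k⟦X⟧) {j : ℕ} (hj : j < n) :
    coeff j (diff U b f) = 0 :=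
  X_pow_dvd_iff.1 (h.diff_dvd b (m := 0) (by simp)).1 j (by omega)

theorem IsBreak.leading_mem (h : IsBreak p n U) (b : ℤ) {f : k⟦X⟧} (hf : norm p U b f = 0) {m : ℕ}
    (hdvd : X ^ m ∣ f) (hne : coeff m f ≠ 0) : ¬ (p : ℤ) ∣ b + m - n := fun hbad =>
  h.norm_coeff_ne_zero b hdvd hne hbad (by rw [hf, map_zero])

/-- The coefficients of a preimage under the difference operator. -/
noncomputable def preCoeff (U : (k⟦X⟧)ˣ) (n : ℕ) (b : ℤ) (f : k⟦X⟧) : ℕ → k
  | l => (coeff (l + n) f - coeff (l + n) (diff U b (∑ i : Fin l, C (preCoeff U n b f i.1) * X ^ i.1))) /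
      (((b + l : ℤ) : k) * lead U n)

theorem IsBreak.mem_range_diff (h : IsBreak p n U) (b : ℤ) {f : k⟦X⟧} (hf : norm p U b f = 0)
    (hlow : ∀ j < n, coeff j f = 0) : f ∈ LinearMap.range (diff U b) := by
  classical
  let H : k⟦X⟧ := PowerSeries.mk (preCoeff U n b f)
  refine ⟨H, (sub_eq_zero.1 ?_).symm⟩
  set r := f - diff U b H with hr
  have hrk : norm p U b r = 0 := by rw [hr, map_sub, hf, h.diff_mem_ker, sub_self]
  by_contra hr0
  obtain ⟨j, hj⟩ : ∃ j, coeff j r ≠ 0 := by
    by_contra hall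
    push Not at hall
    exact hr0 (PowerSeries.ext fun j => by rw [hall j, map_zero])
  let m := Nat.find (p := fun j => coeff j r ≠ 0) ⟨j, hj⟩
  have hm : coeff m r ≠ 0 := Nat.find_spec (p := fun j => coeff j r ≠ 0) ⟨j, hj⟩
  have hdvd : X ^ m ∣ r := X_pow_dvd_iff.2 fun i hi => by
    simpa using Nat.find_min (p := fun j => coeff j r ≠ 0) ⟨j, hj⟩ hi
  have hnm : n ≤ m := by
    by_contra hlt
    exact hm (by rw [hr, map_sub, hlow m (by omega), h.coeff_diff_eq_zero b _ (by omega), sub_self])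
  obtain ⟨l, hl⟩ : ∃ l, m = l + n := ⟨m - n, by omega⟩
  let T : k⟦X⟧ := ∑ i : Fin l, C (preCoeff U n b f i.1) * X ^ i.1
  have hHT : X ^ l ∣ H - T := X_pow_dvd_iff.2 fun i hi => by
    simp only [H, T, map_sub, coeff_mk, map_sum, coeff_C_mul_X_pow]
    rw [Finset.sum_eq_single (⟨i, hi⟩ : Fin l)] <;> simp (config := { contextual := true }) [Fin.ext_iff, eq_comm]
  have hc : coeff l (H - T) = preCoeff U n b f l := by
    simp only [H, T, map_sub, coeff_mk, map_sum, coeff_C_mul_X_pow]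
    rw [Finset.sum_eq_zero fun i _ => if_neg (Nat.ne_of_gt i.2), sub_zero]
  have hlam : ((b + l : ℤ) : k) * lead U n ≠ 0 := mul_ne_zero (fun h0 => h.leading_mem b hrk hdvd hm (by
    rw [show b + (m : ℤ) - n = b + l by rw [hl]; push_cast; ring]
    exact (CharP.intCast_eq_zero_iff k p _).1 h0)) h.lead_ne_zero
  have hD := (h.diff_dvd b hHT).2
  rw [map_sub, map_sub, hc, sub_eq_iff_eq_add, preCoeff, mul_div_cancel₀ _ hlam] at hD
  refine hm ?_
  rw [hr, map_sub, hl, hD]
  ring

theorem IsBreak.exists_ker_leading (h : IsBreak p n U) (b : ℤ) {m : ℕ} (hm : ¬ (p : ℤ) ∣ b + m - n) :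
    ∃ f : k⟦X⟧, norm p U b f = 0 ∧ X ^ m ∣ f ∧ coeff m f ≠ 0 := by
  obtain ⟨h1, h2⟩ := h.diff_dvd (b - n) (dvd_refl ((X : k⟦X⟧) ^ m))
  obtain ⟨q, hq⟩ := h1
  refine ⟨X ^ m * q, ?_, dvd_mul_right _ _, ?_⟩
  · have hN := h.diff_mem_ker (b - n) (X ^ m)
    rw [hq, pow_add, mul_comm (X ^ m) (X ^ n), mul_assoc, norm_X_pow_mul, sub_add_cancel] at hN
    exact (mul_eq_zero.1 hN).resolve_left (pow_ne_zero _ X_ne_zero)
  · rw [hq, coeff_X_pow_mul', coeff_X_pow_self, mul_one, if_pos le_rfl, Nat.sub_self] at h2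
    rw [coeff_X_pow_mul', if_pos le_rfl, Nat.sub_self, h2]
    refine mul_ne_zero (fun h0 => hm ?_) h.lead_ne_zero
    rw [show b + (m : ℤ) - n = b - n + m by ring]
    exact (CharP.intCast_eq_zero_iff k p _).1 h0

/-- The coordinates of a class. -/
noncomputable def coords (p n : ℕ) (b : ℤ) : k⟦X⟧ →ₗ[k] (orders p n b → k) :=
  LinearMap.pi fun m => coeff m.1.1

theorem coords_apply (b : ℤ) (f : k⟦X⟧) (m : orders p n b) : coords p n b f m = coeff m.1.1 f := rfl

theorem IsBreak.coords_surjective (h : IsBreak p n U) (b : ℤ) (y : orders p n b → k) :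
    ∃ f : k⟦X⟧, norm p U b f = 0 ∧ coords p n b f = y := by
  have key : ∀ j : ℕ, ∃ f : k⟦X⟧, norm p U b f = 0 ∧ ∀ m : orders p n b, m.1.1 < j → coeff m.1.1 f = y m := by
    intro j
    induction j with
    | zero => exact ⟨0, map_zero _, fun m hm => absurd hm (Nat.not_lt_zero _)⟩
    | succ j ih =>
      obtain ⟨f, hf, hfy⟩ := ih
      by_cases hj : ∃ m : orders p n b, m.1.1 = j
      · obtain ⟨m, rfl⟩ := hj
        obtain ⟨e, he, hdvd, hne⟩ := h.exists_ker_leading b (mem_orders.1 m.2)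
        refine ⟨f + ((y m - coeff m.1.1 f) / coeff m.1.1 e) • e, by rw [map_add, map_smul, hf, he, smul_zero, add_zero],
          fun m' hm' => ?_⟩
        rw [map_add, map_smul, smul_eq_mul]
        rcases (Nat.lt_succ_iff.1 hm').lt_or_eq with hlt | heq
        · rw [X_pow_dvd_iff.1 hdvd _ hlt, mul_zero, add_zero, hfy m' hlt]
        · obtain rfl : m' = m := Subtype.ext (Fin.ext heq)
          rw [div_mul_cancel₀ _ hne]
          ring
      · exact ⟨f, hf, fun m hm => hfy m (lt_of_le_of_ne (Nat.lt_succ_iff.1 hm) fun e => hj ⟨m, e⟩)⟩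
  obtain ⟨f, hf, hfy⟩ := key n
  exact ⟨f, hf, funext fun m => hfy m m.1.2⟩

theorem IsBreak.coords_eq_zero_iff (h : IsBreak p n U) (b : ℤ) {f : k⟦X⟧} (hf : norm p U b f = 0) :
    coords p n b f = 0 ↔ f ∈ LinearMap.range (diff U b) := by
  refine ⟨fun h0 => h.mem_range_diff b hf fun j => ?_, ?_⟩
  · induction j using Nat.strong_induction_on with
    | _ j ih =>
      intro hj
      by_contra hne
      exact hne (congr_fun h0 ⟨⟨j, hj⟩, mem_orders.2 (h.leading_mem b hf
        (X_pow_dvd_iff.2 fun i hi => ih i hi (by omega)) hne)⟩)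
  · rintro ⟨g, rfl⟩
    exact funext fun m => h.coeff_diff_eq_zero b g m.1.2

theorem coeff_subu_one (U : (k⟦X⟧)ˣ) : norm p U 0 (1 : k⟦X⟧) = 0 := by
  have h1 : ∀ i : ℕ, (sig U 0 ^ i) (1 : k⟦X⟧) = 1 := by
    intro i
    induction i with
    | zero => rfl
    | succ i ih => rw [pow_succ', Module.End.mul_apply, ih, sig_apply, zpow_zero, Units.val_one, one_mul, map_one]
  simp [norm, h1, ← map_natCast (C (R := k))]

theorem norm_zero_pow (U : (k⟦X⟧)ˣ) (f : k⟦X⟧) : norm p U 0 (f ^ p) = norm p U 0 f ^ p := by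
  haveI : CharP k⟦X⟧ p := charP_of_injective_ringHom (f := C (R := k)) PowerSeries.C_injective p
  have h1 : ∀ i : ℕ, ∀ g : k⟦X⟧, (sig U 0 ^ i) g = (subu U ^ i) g := fun i g => by
    rw [sig_pow, zpow_zero, Units.val_one, one_mul]
  simp only [norm, LinearMap.sum_apply, h1, map_pow]
  exact (sum_pow_char p _ _).symm

theorem IsBreak.coeff_eq_zero_of_dvd (h : IsBreak p n U) [IsAlgClosed k] {f : k⟦X⟧} (hf : norm p U 0 f = 0)
    (hzero : ∀ l ≤ n, ¬ p ∣ l → ¬ (p : ℤ) ∣ l - n → coeff l f = 0) :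
    ∀ m ≤ n, ¬ p ∣ m → coeff m f = 0 := by
  classical
  haveI : CharP k⟦X⟧ p := charP_of_injective_ringHom (f := C (R := k)) PowerSeries.C_injective p
  have hp := (Fact.out : p.Prime)
  choose rt hrt using fun j : ℕ => IsAlgClosed.exists_pow_nat_eq (coeff (p * j) f) hp.pos
  let h₁ : k⟦X⟧ := ∑ j ∈ Finset.range n, C (rt (j + 1)) * X ^ (j + 1)
  let hh : k⟦X⟧ := C (rt 0) + h₁
  have hcoef : ∀ l ≤ n, coeff l (f - hh ^ p) = if p ∣ l then 0 else coeff l f := by
    intro l hl
    have e : hh ^ p = ∑ j ∈ Finset.range (n + 1), C (coeff (p * j) f) * X ^ (p * j) := by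
      rw [show hh = ∑ j ∈ Finset.range (n + 1), C (rt j) * X ^ j by
        rw [Finset.sum_range_succ', pow_zero, mul_one, add_comm], sum_pow_char p]
      refine Finset.sum_congr rfl fun j _ => ?_
      rw [mul_pow, ← map_pow, hrt, ← pow_mul, mul_comm j]
    rw [map_sub, e, map_sum]
    simp only [coeff_C_mul_X_pow]
    split_ifs with hd
    · obtain ⟨c, rfl⟩ := hd
      rw [Finset.sum_eq_single c, if_pos rfl, sub_self]
      · intro j _ hne
        rw [if_neg fun e => hne (Nat.eq_of_mul_eq_mul_left hp.pos e).symm]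
      · intro hc
        exact absurd (Finset.mem_range.2 (by nlinarith [hp.two_le])) hc
    · rw [Finset.sum_eq_zero fun j _ => if_neg fun e => hd ⟨j, e⟩, sub_zero]
  intro m
  induction m using Nat.strong_induction_on with
  | _ m ih =>
    intro hm hpm
    by_contra hne
    have hbad : (p : ℤ) ∣ (0 : ℤ) + m - n := by
      by_contra hb
      exact hne (hzero m hm hpm (by simpa using hb))
    have hdvd : X ^ m ∣ f - hh ^ p := X_pow_dvd_iff.2 fun i hi => by
      rw [hcoef i (by omega)]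
      split_ifs with hd
      · rfl
      · exact ih i hi (by omega) hd
    refine h.norm_coeff_ne_zero 0 hdvd (by rw [hcoef m hm, if_neg hpm]; exact hne) hbad ?_
    rw [map_sub, hf, norm_zero_pow, zero_sub, map_neg, neg_eq_zero]
    have h1 : X ^ (1 + (p - 1) * n) ∣ norm p U 0 hh := by
      have hC : C (rt 0) = rt 0 • (1 : k⟦X⟧) := by rw [smul_eq_C_mul, mul_one]
      rw [map_add, hC, map_smul, coeff_subu_one, smul_zero, zero_add]
      refine h.norm_dvd 0 (Finset.dvd_sum fun j _ => ?_)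
      rw [pow_one]
      exact dvd_mul_of_dvd_right (dvd_pow_self X j.succ_ne_zero) _
    have h2 := pow_dvd_pow_of_dvd h1 p
    rw [← pow_mul] at h2
    refine X_pow_dvd_iff.1 h2 _ ?_
    have := hp.two_le
    have := h.pos
    obtain ⟨q, rfl⟩ : ∃ q, p = q + 1 := ⟨p - 1, by omega⟩
    simp only [Nat.add_sub_cancel]
    have hq : n ≤ q * q * n := Nat.le_mul_of_pos_left n (by nlinarith)
    nlinarith

section Count

theorem card_filter_dvd (p : ℕ) (hp : 0 < p) (e : ℤ) :
    ∀ n : ℕ, (((Finset.range n).filter fun j => (p : ℤ) ∣ e - (j : ℕ)).card : ℤ) = e / p - (e - n) / p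
  | 0 => by simp
  | n + 1 => by
    have ih := card_filter_dvd p hp e n
    rw [Finset.range_add_one, Finset.filter_insert]
    have hstep : (e - n) / (p : ℤ) - (e - (n + 1 : ℕ)) / p = if (p : ℤ) ∣ e - n then 1 else 0 := by
      push_cast
      rw [show e - ((n : ℤ) + 1) = e - n - 1 by ring]
      generalize e - (n : ℤ) = x
      have hp' : (0 : ℤ) < p := by exact_mod_cast hp
      split_ifs with hd
      · obtain ⟨c, rfl⟩ := hd
        rw [Int.mul_ediv_cancel_left _ hp'.ne', show (p : ℤ) * c - 1 = ((p : ℤ) - 1) + (p : ℤ) * (c - 1) by ring,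
          Int.add_mul_ediv_left _ _ hp'.ne', Int.ediv_eq_zero_of_lt (by omega) (by omega)]
        ring
      · have h1 := Int.emod_add_mul_ediv x p
        have h2 := Int.emod_nonneg x hp'.ne'
        have h3 := Int.emod_lt_of_pos x hp'
        have h4 : x % p ≠ 0 := fun h0 => hd (Int.dvd_of_emod_eq_zero h0)
        have h5 : (x - 1) / (p : ℤ) = x / p := by
          rw [show x - 1 = (x % p - 1) + p * (x / p) by linear_combination -h1,
            Int.add_mul_ediv_left _ _ hp'.ne', Int.ediv_eq_zero_of_lt (by omega) (by omega), zero_add]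
        rw [h5, sub_self]
    split_ifs with hd
    · rw [if_pos hd] at hstep
      rw [Finset.card_insert_of_notMem (by simp)]
      push_cast at hstep ih ⊢
      omega
    · rw [if_neg hd] at hstep
      push_cast at hstep ih ⊢
      omega

theorem card_fin_filter (n : ℕ) (P : ℕ → Prop) [DecidablePred P] :
    (Finset.univ.filter fun m : Fin n => P (n - 1 - m.1)).card = ((Finset.range n).filter P).card := by
  refine Finset.card_bij (fun m _ => n - 1 - m.1) ?_ ?_ ?_
  · intro m hm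
    simp only [Finset.mem_filter, Finset.mem_univ, true_and] at hm
    simp only [Finset.mem_filter, Finset.mem_range]
    exact ⟨by omega, hm⟩
  · intro a _ b _ hab
    exact Fin.ext (by omega)
  · intro j hj
    simp only [Finset.mem_filter, Finset.mem_range] at hj
    refine ⟨⟨n - 1 - j, by omega⟩, ?_, by simp; omega⟩
    simp only [Finset.mem_filter, Finset.mem_univ, true_and]
    rw [show n - 1 - (n - 1 - j) = j by omega]
    exact hj.2

theorem card_orders (p n : ℕ) (hp : 0 < p) (b : ℤ) :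
    ((orders p n b).card : ℤ) = n - (b - 1) / p + (b - 1 - n) / p := by
  classical
  have h1 : orders p n b = Finset.univ.filter fun m : Fin n => ¬ (p : ℤ) ∣ b - 1 - ((n - 1 - m.1 : ℕ) : ℤ) := by
    refine Finset.filter_congr fun m _ => ?_
    rw [show b - 1 - ((n - 1 - m.1 : ℕ) : ℤ) = b + (m.1 : ℤ) - n by have := m.2; omega]
  rw [h1, card_fin_filter n fun j => ¬ (p : ℤ) ∣ b - 1 - (j : ℤ)]
  have h2 := Finset.card_filter_add_card_filter_not (s := Finset.range n) fun j : ℕ => (p : ℤ) ∣ b - 1 - (j : ℤ)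
  have h3 := card_filter_dvd p hp (b - 1) n
  rw [Finset.card_range] at h2
  omega

end Count

end Groth.Agent.H02CA.AS
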