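import Mathlib.RingTheory.PowerSeries.Substitution
import Mathlib.RingTheory.PowerSeries.Trunc
import Mathlib.RingTheory.PowerSeries.Derivative
import Mathlib.Algebra.CharP.Lemmas
import Mathlib.Algebra.Polynomial.AlgebraMap
import Mathlib.RingTheory.Polynomial.Basic
import Mathlib.RingTheory.PowerSeries.Inverse
import Mathlib.Tactic.LinearCombination
import Mathlib.Tactic.Ring

/-!
The order-`p` substitution `t ↦ t·u` of an Artin–Schreier break `n` and its twists.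
-/

set_option autoImplicit false

universe u

open PowerSeries

namespace Groth.Agent.H02CA.AS

variable {k : Type u} [Field k]

theorem hasSubst_X_mul (f : k⟦X⟧) : HasSubst (X * f) := HasSubst.of_constantCoeff_zero' (by simp)

/-- The substitution `t ↦ t·u`. -/
noncomputable def subu (U : (k⟦X⟧)ˣ) : k⟦X⟧ →ₐ[k] k⟦X⟧ := substAlgHom (hasSubst_X_mul (U : k⟦X⟧))

theorem subu_apply (U : (k⟦X⟧)ˣ) (h : k⟦X⟧) : subu U h = subst (X * (U : k⟦X⟧)) h := by
  rw [subu, coe_substAlgHom]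

theorem subu_X (U : (k⟦X⟧)ˣ) : subu U X = X * (U : k⟦X⟧) := by
  rw [subu_apply, subst_X (hasSubst_X_mul _)]

/-- The twisted action. -/
noncomputable def sig (U : (k⟦X⟧)ˣ) (b : ℤ) : Module.End k k⟦X⟧ :=
  LinearMap.mulLeft k ((U ^ b : (k⟦X⟧)ˣ) : k⟦X⟧) ∘ₗ (subu U).toLinearMap

theorem sig_apply (U : (k⟦X⟧)ˣ) (b : ℤ) (h : k⟦X⟧) : sig U b h = ((U ^ b : (k⟦X⟧)ˣ) : k⟦X⟧) * subu U h := rfl

theorem exists_eq_trunc_add (m : ℕ) (h : k⟦X⟧) :
    ∃ r : k⟦X⟧, h = (trunc m h : k⟦X⟧) + X ^ m * r := by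
  obtain ⟨r, hr⟩ := (X_pow_dvd_iff (φ := h - (trunc m h : k⟦X⟧))).2 fun j hj => by
    rw [map_sub, Polynomial.coeff_coe, coeff_trunc, if_pos hj, sub_self]
  exact ⟨r, by rw [← hr]; ring⟩

theorem dvd_map_sub_map (φ : k⟦X⟧ →ₐ[k] k⟦X⟧) (m : ℕ) (hX : X ^ m ∣ φ X - X) (h : k⟦X⟧) :
    X ^ m ∣ φ h - h := by
  obtain ⟨r, hr⟩ := exists_eq_trunc_add m h
  have hP : ∀ P : Polynomial k, φ (P : k⟦X⟧) = Polynomial.aeval (φ X) P ∧ (P : k⟦X⟧) = Polynomial.aeval (X : k⟦X⟧) P := by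
    intro P
    have h2 : (P : k⟦X⟧) = Polynomial.aeval (X : k⟦X⟧) P := by
      induction P using Polynomial.induction_on' with
      | add a b ha hb => rw [Polynomial.coe_add, map_add, ← ha, ← hb]
      | monomial i c => rw [Polynomial.coe_monomial, Polynomial.aeval_monomial, monomial_eq_C_mul_X_pow]; rfl
    exact ⟨by conv_lhs => rw [h2, ← Polynomial.aeval_algHom_apply], h2⟩
  have hφX : X ^ m ∣ φ (X ^ m * r) := by
    rw [map_mul, map_pow]
    refine Dvd.dvd.mul_right ?_ _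
    rcases Nat.eq_zero_or_pos m with rfl | hm
    · simp
    · refine pow_dvd_pow_of_dvd ?_ m
      have : (X : k⟦X⟧) ∣ φ X - X := (dvd_pow_self X hm.ne').trans hX
      simpa using dvd_add this (dvd_refl X)
  rw [hr, map_add, (hP _).1]
  rw [(hP (trunc m h)).2]
  have h1 : φ X - X ∣ Polynomial.aeval (φ X) (trunc m h) - Polynomial.aeval (X : k⟦X⟧) (trunc m h) := by
    simp only [Polynomial.aeval_def, ← Polynomial.eval_map]
    exact Polynomial.sub_dvd_eval_sub _ _ _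
  have := dvd_add (hX.trans h1) (dvd_sub hφX (dvd_mul_right (X ^ m) r))
  convert this using 1
  ring

theorem map_eq_self_of_map_X (φ : k⟦X⟧ →ₐ[k] k⟦X⟧) (hX : φ X = X) (h : k⟦X⟧) : φ h = h := by
  refine sub_eq_zero.1 (PowerSeries.ext fun j => ?_)
  rw [map_zero]
  exact X_pow_dvd_iff.1 (dvd_map_sub_map φ (j + 1) (by rw [hX, sub_self]; exact dvd_zero _) h) j j.lt_succ_self

variable {p : ℕ} [Fact p.Prime] [CharP k p] {n : ℕ} {U : (k⟦X⟧)ˣ}

/-- The hypotheses on `u`. -/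
structure IsBreak (p n : ℕ) (U : (k⟦X⟧)ˣ) : Prop where
  pos : 0 < n
  ndvd : ¬ p ∣ n
  const : constantCoeff (U : k⟦X⟧) = 1
  eq : (U : k⟦X⟧) ^ n * (1 + X ^ n) = 1

theorem cast_ne_zero_of_not_dvd {m : ℕ} (hm : ¬ p ∣ m) : (m : k) ≠ 0 := fun h =>
  hm ((CharP.cast_eq_zero_iff k p m).1 h)

theorem eq_one_of_pow_eq_one (hn : ¬ p ∣ n) (V : k⟦X⟧) (hc : constantCoeff V = 1) (hV : V ^ n = 1) : V = 1 := by
  have h := geom_sum_mul V n
  rw [hV, sub_self] at h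
  rcases mul_eq_zero.1 h with h0 | h0
  · exfalso
    have := congrArg constantCoeff h0
    simp [map_sum, hc] at this
    exact cast_ne_zero_of_not_dvd (k := k) hn this
  · exact sub_eq_zero.1 h0

/-- The `i`-fold iterate of the substitution, on the parameter. -/
noncomputable def iterV (U : (k⟦X⟧)ˣ) : ℕ → (k⟦X⟧)ˣ
  | 0 => 1
  | i + 1 => U * Units.map (subu U : k⟦X⟧ →* k⟦X⟧) (iterV U i)

theorem pow_subu_X (U : (k⟦X⟧)ˣ) : ∀ i : ℕ, ((subu U) ^ i) X = X * (iterV U i : k⟦X⟧)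
  | 0 => by simp [iterV]
  | i + 1 => by
    rw [pow_succ', AlgHom.mul_apply, pow_subu_X U i, map_mul, subu_X, mul_assoc]
    rfl

theorem sig_pow (U : (k⟦X⟧)ˣ) (b : ℤ) : ∀ (i : ℕ) (h : k⟦X⟧),
    ((sig U b) ^ i) h = ((iterV U i ^ b : (k⟦X⟧)ˣ) : k⟦X⟧) * ((subu U) ^ i) h
  | 0, h => by simp [iterV]
  | i + 1, h => by
    rw [pow_succ', Module.End.mul_apply, sig_pow U b i h, sig_apply, map_mul, pow_succ', AlgHom.mul_apply,
      ← mul_assoc]
    congr 1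
    change _ = (((U * Units.map (subu U : k⟦X⟧ →* k⟦X⟧) (iterV U i)) ^ b : (k⟦X⟧)ˣ) : k⟦X⟧)
    rw [mul_zpow, Units.val_mul, ← map_zpow]
    rfl

theorem IsBreak.constantCoeff_subu (h : IsBreak p n U) (r : k⟦X⟧) :
    constantCoeff (subu U r) = constantCoeff r := by
  have h1 := X_pow_dvd_iff.1 (dvd_map_sub_map (subu U) 1 (by
    rw [subu_X, pow_one, ← mul_sub_one]; exact dvd_mul_right _ _) r) 0 Nat.one_pos
  rw [coeff_zero_eq_constantCoeff_apply, map_sub, sub_eq_zero] at h1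
  exact h1

theorem IsBreak.iterV_const (h : IsBreak p n U) : ∀ i, constantCoeff (iterV U i : k⟦X⟧) = 1
  | 0 => by simp [iterV]
  | i + 1 => by
    change constantCoeff ((U : k⟦X⟧) * subu U (iterV U i : k⟦X⟧)) = 1
    rw [map_mul, h.const, h.constantCoeff_subu, h.iterV_const i, one_mul]

theorem IsBreak.iterV_pow (h : IsBreak p n U) :
    ∀ i : ℕ, (iterV U i : k⟦X⟧) ^ n * (1 + (i : k⟦X⟧) * X ^ n) = 1
  | 0 => by simp [iterV]
  | i + 1 => by
    have ih := congrArg (subu U) (h.iterV_pow i)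
    rw [map_mul, map_pow, map_add, map_one, map_mul, map_natCast, map_pow, subu_X, mul_pow] at ih
    change ((U : k⟦X⟧) * subu U (iterV U i : k⟦X⟧)) ^ n * _ = 1
    have e : (U : k⟦X⟧) ^ n * (1 + ((i + 1 : ℕ) : k⟦X⟧) * X ^ n) = 1 + (i : k⟦X⟧) * (X ^ n * (U : k⟦X⟧) ^ n) := by
      have := h.eq
      push_cast
      linear_combination this
    calc ((U : k⟦X⟧) * subu U (iterV U i : k⟦X⟧)) ^ n * (1 + ((i + 1 : ℕ) : k⟦X⟧) * X ^ n)
        = subu U (iterV U i : k⟦X⟧) ^ n * ((U : k⟦X⟧) ^ n * (1 + ((i + 1 : ℕ) : k⟦X⟧) * X ^ n)) := by ring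
      _ = 1 := by rw [e, ih]

theorem IsBreak.iterV_p (h : IsBreak p n U) : iterV U p = 1 := by
  refine Units.ext ?_
  refine eq_one_of_pow_eq_one h.ndvd _ (h.iterV_const p) ?_
  have := h.iterV_pow p
  rwa [show ((p : ℕ) : k⟦X⟧) = 0 by
    rw [← map_natCast (C (R := k)), CharP.cast_eq_zero, map_zero], zero_mul, add_zero, mul_one] at this

/-- The twisted actions have order `p`. -/
theorem IsBreak.sig_pow_p (h : IsBreak p n U) (b : ℤ) : (sig U b) ^ p = 1 := by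
  refine LinearMap.ext fun f => ?_
  rw [sig_pow, h.iterV_p, one_zpow, Units.val_one, one_mul, Module.End.one_apply]
  exact map_eq_self_of_map_X _ (by rw [pow_subu_X, h.iterV_p, Units.val_one, mul_one]) f

/-- The first interesting coefficient of `u`. -/
noncomputable def lead (U : (k⟦X⟧)ˣ) (n : ℕ) : k := coeff n ((U : k⟦X⟧) - 1)

theorem IsBreak.dvd_sub_one (h : IsBreak p n U) : X ^ n ∣ (U : k⟦X⟧) - 1 := by
  have hG : IsUnit (∑ i ∈ Finset.range n, (U : k⟦X⟧) ^ i) := by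
    rw [isUnit_iff_constantCoeff]
    simpa [map_sum, h.const] using cast_ne_zero_of_not_dvd (k := k) h.ndvd
  refine hG.dvd_mul_left.1 ?_
  rw [geom_sum_mul]
  exact ⟨-(U : k⟦X⟧) ^ n, by linear_combination h.eq⟩

theorem IsBreak.zpow_congr (h : IsBreak p n U) (b : ℤ) :
    X ^ (n + 1) ∣ ((U ^ b : (k⟦X⟧)ˣ) : k⟦X⟧) - (1 + C ((b : k) * lead U n) * X ^ n) := by
  obtain ⟨r, hr⟩ := h.dvd_sub_one
  have hlead : constantCoeff r = lead U n := by
    rw [lead, hr, mul_comm, ← coeff_zero_eq_constantCoeff_apply]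
    simpa using (coeff_mul_X_pow r n 0).symm
  obtain ⟨r', hr'⟩ : ∃ r', r = C (lead U n) + X * r' :=
    ⟨_, by rw [← hlead, add_comm]; exact eq_X_mul_shift_add_const r⟩
  obtain ⟨e, he⟩ : ∃ e, n = e + 1 := ⟨n - 1, by have := h.pos; omega⟩
  have h1 : X ^ (n + 1) ∣ (U : k⟦X⟧) - (1 + C (lead U n) * X ^ n) :=
    ⟨r', by rw [pow_succ]; linear_combination hr + X ^ n * hr'⟩
  induction b using Int.induction_on with
  | zero => simp
  | succ i ih =>
    obtain ⟨q, hq⟩ := ih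
    obtain ⟨q', hq'⟩ := h1
    rw [zpow_add_one, Units.val_mul]
    refine ⟨(U : k⟦X⟧) * q + (1 + C (((i : ℤ) : k) * lead U n) * X ^ n) * q' +
      C (((i : ℤ) : k) * lead U n) * C (lead U n) * X ^ e, ?_⟩
    have hC : C ((((i : ℤ) + 1 : ℤ) : k) * lead U n) = C (((i : ℤ) : k) * lead U n) + C (lead U n) := by
      rw [← map_add]; congr 1; push_cast; ring
    rw [hC]
    have hX : (X : k⟦X⟧) ^ n * X ^ n = X ^ (n + 1) * X ^ e := by rw [← pow_add, ← pow_add]; congr 1; omega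
    linear_combination (U : k⟦X⟧) * hq + (1 + C (((i : ℤ) : k) * lead U n) * X ^ n) * hq' +
      C (((i : ℤ) : k) * lead U n) * C (lead U n) * hX
  | pred i ih =>
    obtain ⟨q, hq⟩ := ih
    obtain ⟨q', hq'⟩ := h1
    set v := (C (((-(i : ℤ) - 1 : ℤ) : k) * lead U n) : k⟦X⟧) with hv
    have hC : C ((((-(i : ℤ)) : ℤ) : k) * lead U n) = v + C (lead U n) := by
      rw [hv, ← map_add]; congr 1; push_cast; ring
    have hmul : ((U ^ (-(i : ℤ) - 1) : (k⟦X⟧)ˣ) : k⟦X⟧) * (U : k⟦X⟧) = ((U ^ (-(i : ℤ)) : (k⟦X⟧)ˣ) : k⟦X⟧) := by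
      rw [← Units.val_mul, ← zpow_add_one]; norm_num
    rw [hC] at hq
    have hX : (X : k⟦X⟧) ^ n * X ^ n = X ^ (n + 1) * X ^ e := by rw [← pow_add, ← pow_add]; congr 1; omega
    refine (Units.dvd_mul_right (u := U)).1 ⟨q - (1 + v * X ^ n) * q' - v * C (lead U n) * X ^ e, ?_⟩
    linear_combination hmul + hq - (1 + v * X ^ n) * hq' - v * C (lead U n) * hX

theorem IsBreak.lead_ne_zero (h : IsBreak p n U) : lead U n ≠ 0 := by
  intro h0
  obtain ⟨r, hr⟩ := h.zpow_congr (n : ℤ)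
  have hu : ((U ^ (n : ℤ) : (k⟦X⟧)ˣ) : k⟦X⟧) = (U : k⟦X⟧) ^ n := by simp
  rw [hu, h0, mul_zero, map_zero, zero_mul, add_zero] at hr
  have hh : (X : k⟦X⟧) ^ n = X ^ (n + 1) * (-(r * (1 + X ^ n))) := by
    linear_combination h.eq - (1 + X ^ n) * hr
  have := X_pow_dvd_iff.1 (Dvd.intro _ hh.symm) n n.lt_succ_self
  simp at this

theorem IsBreak.X_dvd_subu_sub (h : IsBreak p n U) (r : k⟦X⟧) : X ^ (n + 1) ∣ subu U r - r :=
  dvd_map_sub_map _ _ (by rw [subu_X, ← mul_sub_one, pow_succ']; exact mul_dvd_mul_left _ h.dvd_sub_one) r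

theorem IsBreak.sig_congr (h : IsBreak p n U) (b : ℤ) (r : k⟦X⟧) :
    X ^ (n + 1) ∣ sig U b r - r - C ((b : k) * lead U n * constantCoeff r) * X ^ n := by
  obtain ⟨q, hq⟩ := h.zpow_congr b
  obtain ⟨s, hs⟩ := h.X_dvd_subu_sub r
  obtain ⟨t, ht⟩ : ∃ t, r = X * t + C (constantCoeff r) := ⟨_, eq_X_mul_shift_add_const r⟩
  rw [sig_apply, map_mul]
  refine ⟨q * subu U r + (1 + C ((b : k) * lead U n) * X ^ n) * s + C ((b : k) * lead U n) * t, ?_⟩
  rw [pow_succ] at hq hs ⊢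
  linear_combination subu U r * hq + (1 + C ((b : k) * lead U n) * X ^ n) * hs + C ((b : k) * lead U n) * X ^ n * ht

theorem subu_X_pow (U : (k⟦X⟧)ˣ) (m : ℕ) : subu U (X ^ m) = X ^ m * ((U ^ (m : ℤ) : (k⟦X⟧)ˣ) : k⟦X⟧) := by
  rw [map_pow, subu_X, mul_pow]
  simp

theorem sig_X_pow_mul (U : (k⟦X⟧)ˣ) (b : ℤ) (m : ℕ) (r : k⟦X⟧) :
    sig U b (X ^ m * r) = X ^ m * sig U (b + m) r := by
  rw [sig_apply, sig_apply, map_mul, subu_X_pow, zpow_add, Units.val_mul]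
  ring

theorem sig_pow_X_pow_mul (U : (k⟦X⟧)ˣ) (b : ℤ) (m : ℕ) : ∀ (i : ℕ) (r : k⟦X⟧),
    ((sig U b) ^ i) (X ^ m * r) = X ^ m * ((sig U (b + m)) ^ i) r
  | 0, r => rfl
  | i + 1, r => by
    rw [pow_succ', Module.End.mul_apply, sig_pow_X_pow_mul U b m i r, sig_X_pow_mul, pow_succ', Module.End.mul_apply]

/-- The difference operator. -/
noncomputable def diff (U : (k⟦X⟧)ˣ) (b : ℤ) : Module.End k k⟦X⟧ := sig U b - 1

/-- The norm operator. -/
noncomputable def norm (p : ℕ) (U : (k⟦X⟧)ˣ) (b : ℤ) : Module.End k k⟦X⟧ := ∑ i ∈ Finset.range p, (sig U b) ^ i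

theorem IsBreak.norm_mul_diff (h : IsBreak p n U) (b : ℤ) : norm p U b * diff U b = 0 := by
  rw [norm, diff, geom_sum_mul, h.sig_pow_p, sub_self]

theorem IsBreak.diff_mul_norm (h : IsBreak p n U) (b : ℤ) : diff U b * norm p U b = 0 := by
  rw [norm, diff, mul_geom_sum, h.sig_pow_p, sub_self]

omit [CharP k p] in
theorem geom_sum_eq_sub_one_pow [CharP k p] :
    ∑ i ∈ Finset.range p, (Polynomial.X : Polynomial k) ^ i = (Polynomial.X - 1) ^ (p - 1) := by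
  refine mul_right_cancel₀ (Polynomial.X_sub_C_ne_zero (1 : k)) ?_
  rw [map_one, geom_sum_mul, ← pow_succ, Nat.sub_add_cancel (Fact.out : p.Prime).one_le, sub_pow_char, one_pow]

theorem norm_eq_diff_pow (U : (k⟦X⟧)ˣ) (b : ℤ) : norm p U b = diff U b ^ (p - 1) := by
  have := congrArg (Polynomial.aeval (sig U b)) (geom_sum_eq_sub_one_pow (k := k) (p := p))
  simpa [norm, diff, map_sum] using this

theorem norm_X_pow_mul (U : (k⟦X⟧)ˣ) (b : ℤ) (m : ℕ) (r : k⟦X⟧) :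
    norm p U b (X ^ m * r) = X ^ m * norm p U (b + m) r := by
  simp only [norm, LinearMap.sum_apply, sig_pow_X_pow_mul, Finset.mul_sum]

theorem diff_X_pow_mul (U : (k⟦X⟧)ˣ) (b : ℤ) (m : ℕ) (r : k⟦X⟧) :
    diff U b (X ^ m * r) = X ^ m * diff U (b + m) r := by
  simp only [diff, LinearMap.sub_apply, Module.End.one_apply, sig_X_pow_mul, mul_sub]

theorem IsBreak.diff_dvd (h : IsBreak p n U) (b : ℤ) {m : ℕ} {f : k⟦X⟧} (hf : X ^ m ∣ f) :
    X ^ (m + n) ∣ diff U b f ∧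
      coeff (m + n) (diff U b f) = ((b + m : ℤ) : k) * lead U n * coeff m f := by
  obtain ⟨r, rfl⟩ := hf
  obtain ⟨q, hq⟩ := h.sig_congr (b + m) r
  have e : diff U b (X ^ m * r) = X ^ (m + n) * (C (((b + m : ℤ) : k) * lead U n * constantCoeff r) + X * q) := by
    rw [diff_X_pow_mul, diff, LinearMap.sub_apply, Module.End.one_apply, pow_add, pow_succ] at *
    linear_combination X ^ m * hq
  refine ⟨Dvd.intro _ e.symm, ?_⟩
  rw [e]
  simp only [coeff_X_pow_mul', le_refl, if_true, Nat.sub_self, coeff_zero_eq_constantCoeff_apply, map_add,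
    map_mul, constantCoeff_C, constantCoeff_X, zero_mul, add_zero]

theorem IsBreak.diff_pow_dvd (h : IsBreak p n U) (b : ℤ) {m : ℕ} {f : k⟦X⟧} (hf : X ^ m ∣ f) :
    ∀ i : ℕ, X ^ (m + i * n) ∣ (diff U b ^ i) f ∧
      coeff (m + i * n) ((diff U b ^ i) f) =
        (∏ j ∈ Finset.range i, ((b + m + j * n : ℤ) : k) * lead U n) * coeff m f
  | 0 => by simpa using hf
  | i + 1 => by
    obtain ⟨h1, h2⟩ := h.diff_pow_dvd b hf i
    obtain ⟨h3, h4⟩ := h.diff_dvd b h1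
    rw [pow_succ', Module.End.mul_apply]
    rw [show m + (i + 1) * n = m + i * n + n by ring]
    refine ⟨h3, h4.trans ?_⟩
    rw [h2, Finset.prod_range_succ]
    push_cast
    ring

theorem IsBreak.norm_dvd (h : IsBreak p n U) (b : ℤ) {m : ℕ} {f : k⟦X⟧} (hf : X ^ m ∣ f) :
    X ^ (m + (p - 1) * n) ∣ norm p U b f := by
  rw [norm_eq_diff_pow]
  exact (h.diff_pow_dvd b hf (p - 1)).1

theorem IsBreak.norm_coeff_ne_zero (h : IsBreak p n U) (b : ℤ) {m : ℕ} {f : k⟦X⟧} (hf : X ^ m ∣ f)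
    (hne : coeff m f ≠ 0) (hbad : (p : ℤ) ∣ b + m - n) : coeff (m + (p - 1) * n) (norm p U b f) ≠ 0 := by
  rw [norm_eq_diff_pow, (h.diff_pow_dvd b hf (p - 1)).2]
  refine mul_ne_zero (Finset.prod_ne_zero_iff.2 fun j hj => mul_ne_zero ?_ h.lead_ne_zero) hne
  rw [Finset.mem_range] at hj
  intro h0
  have h1 := (CharP.intCast_eq_zero_iff k p _).1 h0
  have h2 : (p : ℤ) ∣ ((j + 1) * n : ℕ) := by
    have := dvd_sub h1 hbad
    rwa [show b + m + j * n - (b + m - n) = (((j + 1) * n : ℕ) : ℤ) by push_cast; ring] at this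
  rcases (Fact.out : p.Prime).dvd_mul.1 (Int.natCast_dvd_natCast.1 h2) with h3 | h3
  · exact absurd (Nat.le_of_dvd (by omega) h3) (by omega)
  · exact h.ndvd h3

end Groth.Agent.H02CA.AS
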